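/-
The Schur multiplier of the Rudvalis group has order two, given the order and simplicity of the group.
-/
import Cfsg.Agent.Lib.RuMult.Group
import Cfsg.Agent.Lib.PermChain.Schur
import Cfsg.Agent.Lib.SchurSmall
import Cfsg.Prelude.Def_KGroupFacts

set_option autoImplicit false
set_option maxRecDepth 100000

namespace CfsgLib.RuMult

open Subgroup Cfsg Cfsg.Spor CfsgLib.StemSylow
open scoped commutatorElement

attribute [local irreducible] tabs certTwo certThree certFive chainTwo chainTwoI chainThree chainFive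

/-- The double cover. -/
abbrev DRu : Type := ↥(_root_.commutator ↥fourRu)

open scoped Classical in
/-- An element seen in the double cover. -/
noncomputable def toD (g : ↥fourRu) : DRu :=
  if h : g ∈ _root_.commutator ↥fourRu then ⟨g, h⟩ else 1

theorem coe_toD {g : ↥fourRu} (h : g ∈ _root_.commutator ↥fourRu) : (toD g : ↥fourRu) = g := by
  rw [toD, dif_pos h]

variable (H : Facts)
include H

theorem gI'_mem {gi : List ℕ} (hg : (gi.all fun a => (wits.map Prod.fst).contains a) = true) {k : ℕ}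
    (hk : k < gi.length) : gI' tabs gi k ∈ _root_.commutator ↥fourRu := by
  rw [gI', List.getD_eq_getElem _ _ hk]
  exact gT_mem H (List.all_eq_true.mp hg _ (List.getElem_mem hk))

theorem cover : (giTwo.all fun a => (wits.map Prod.fst).contains a) = true ∧
    (tiTwo.tail.all fun a => (wits.map Prod.fst).contains a) = true ∧
    (giThree.all fun a => (wits.map Prod.fst).contains a) = true ∧
    (tiThree.tail.all fun a => (wits.map Prod.fst).contains a) = true ∧
    (giFive.all fun a => (wits.map Prod.fst).contains a) = true ∧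
    (tiFive.tail.all fun a => (wits.map Prod.fst).contains a) = true ∧
    (cycI.all fun a => (wits.map Prod.fst).contains a) = true := by
  have h := wits_cover
  simp only [List.all_append, Bool.and_eq_true] at h
  exact ⟨h.1.1.1.1.1.1, h.1.1.1.1.1.2, h.1.1.1.1.2, h.1.1.1.2, h.1.1.2, h.1.2, h.2⟩

omit H in
/-- The words of a certificate only use listed letters. -/
noncomputable def inRangeC (n m : ℕ) (facts : List (ℕ × List ℕ × List ℕ)) : Bool :=
  facts.all fun f => Nat.blt f.1 m && f.2.1.all (fun a => Nat.blt a n) && f.2.2.all (fun a => Nat.blt a n)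

theorem tI_mem {ti : List ℕ} (ht : (ti.tail.all fun a => (wits.map Prod.fst).contains a) = true) {t : ℕ}
    (htl : t < ti.length) : tI tabs ti t ∈ _root_.commutator ↥fourRu := by
  rcases t with _ | t
  · exact one_mem _
  · show wd tabs [ti.getD (t + 1) 0] ∈ _
    rw [wd, Collect.ev_cons, Collect.ev_nil, mul_one, List.getD_eq_getElem _ _ htl]
    refine gT_mem H (List.all_eq_true.mp ht _ ?_)
    rcases ti with _ | ⟨a, l⟩
    · simp at htl
    · simp at htl ⊢

/-- The facts hold in the double cover. -/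
theorem facts_in_cover {gi ti : List ℕ} {facts : List (ℕ × List ℕ × List ℕ)}
    (hF : okFacts tabs gi ti facts = true) (hg : (gi.all fun a => (wits.map Prod.fst).contains a) = true)
    (ht : (ti.tail.all fun a => (wits.map Prod.fst).contains a) = true)
    (hr : inRangeC gi.length ti.length facts = true) :
    toD (tI tabs ti 0) = 1 ∧ ∀ m < facts.length,
      toD (tI tabs ti (facts.getD m (0, [], [])).1) *
        Collect.ev (fun k => toD (gI' tabs gi k)) (facts.getD m (0, [], [])).2.1 *
          (toD (tI tabs ti (facts.getD m (0, [], [])).1))⁻¹ =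
        Collect.ev (fun k => toD (gI' tabs gi k)) (facts.getD m (0, [], [])).2.2 := by
  obtain ⟨h0, hf⟩ := facts_of_ok tabs_ok hF
  refine ⟨Subtype.ext (by rw [h0]; exact coe_toD (one_mem _)), fun m hm => ?_⟩
  simp only [inRangeC, List.all_eq_true, Bool.and_eq_true, Nat.blt_eq] at hr
  obtain ⟨⟨h1, h2⟩, h3⟩ := hr _ (List.getD_eq_getElem facts (0, [], []) hm ▸ List.getElem_mem hm)
  have hev : ∀ l : List ℕ, (∀ a ∈ l, a < gi.length) →
      ((Collect.ev (fun k => toD (gI' tabs gi k)) l : DRu) : ↥fourRu) = Collect.ev (gI' tabs gi) l := by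
    intro l hl
    induction l with
    | nil => rfl
    | cons a l ih =>
      rw [Collect.ev_cons, Collect.ev_cons, Subgroup.coe_mul, coe_toD (gI'_mem H hg (hl a (List.mem_cons_self ..))),
        ih fun b hb => hl b (List.mem_cons_of_mem _ hb)]
  refine Subtype.ext ?_
  rw [Subgroup.coe_mul, Subgroup.coe_mul, Subgroup.coe_inv, hev _ h2, hev _ h3, coe_toD (tI_mem H ht h1)]
  exact hf m hm

/-- A chain bounds the generated subgroup of the double cover from below. -/
theorem card_ge_cover {gi : List ℕ} {n : ℕ} (hn : gi.length = n)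
    (hg : (gi.all fun a => (wits.map Prod.fst).contains a) = true) {ch : List (ℕ × List (List ℕ))}
    (hch : chainOK tabs gi [] ch = true) :
    chainSize ch ≤ Nat.card (Subgroup.closure ((fun k => toD (gI' tabs gi k)) '' {k | k < n})) := by
  haveI := finite_fourRu H
  rw [← Subgroup.card_map_of_injective
    (K := Subgroup.closure ((fun k => toD (gI' tabs gi k)) '' {k | k < n})) (f := (_root_.commutator ↥fourRu).subtype)
    Subtype.val_injective]
  refine card_ge tabs_ok hch _ fun a ha => ?_
  obtain ⟨k, hk, rfl⟩ := List.getElem_of_mem ha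
  refine ⟨toD (gI' tabs gi k), Subgroup.subset_closure ⟨k, hn ▸ hk, rfl⟩, ?_⟩
  rw [Subgroup.coe_subtype, coe_toD (gI'_mem H hg hk), gI', List.getD_eq_getElem _ _ hk]

omit H in
theorem ranges_ok : inRangeC giTwo.length tiTwo.length certTwo.facts = true ∧
    inRangeC giThree.length tiThree.length certThree.facts = true ∧
    inRangeC giFive.length tiFive.length certFive.facts = true ∧
    giThree.length = certThree.n ∧ giFive.length = certFive.n ∧ certThree.n = 3 ∧ certFive.n = 3 ∧
    certThree.p = 3 ∧ certFive.p = 5 := by decide +kernel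

theorem two_torsion {Γ : Type} [Group Γ] [Finite Γ] {σ : Γ →* DRu} (hσ : Cfsg.IsStemExtension σ) {z : Γ}
    (hz : z ∈ σ.ker) (hzp : z ^ 2 = 1) : z = 1 := by
  haveI := finite_fourRu H
  obtain ⟨hg, ht', -⟩ := cover H
  obtain ⟨ht, hf⟩ := facts_in_cover H factsTwo_ok hg ht' ranges_ok.1
  obtain ⟨hn, hlen⟩ := certTwo_n
  set g : ℕ → DRu := fun k => toD (gI' tabs giTwo k) with hgdef
  set t : ℕ → DRu := fun k => toD (tI tabs tiTwo k) with htdef
  have hle : 2 ^ certTwo.n ≤ Nat.card (Subgroup.closure (g '' {k | k < certTwo.n})) := by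
    have := card_ge_cover H (n := certTwo.n) (by rw [hn, hlen]) hg (ch := chainTwo) (gens_ok.1 ▸ chainTwo_ok.1)
    rw [chainTwo_ok.2] at this
    rw [hn] at this ⊢
    simpa using this
  refine Collect.eq_one_of_sq_surjective (fun y hy => Collect.sq_surjective hσ (fun Δ _ _ τ hτ hexp => ?_) hy) 1 z hz
    (by rwa [pow_one])
  rw [eq_bot_iff]
  intro x hx
  have hupper := upper_two certTwo certTwo_ok g t ht hf
  have hindex := Collect.pow_index_eq_one hτ hexp certTwo certTwo_ok g t ht hf hle hx
  have hmul := Subgroup.card_mul_index (Subgroup.closure (g '' {k | k < certTwo.n}))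
  rw [le_antisymm hupper hle, card_commutator H, hn] at hmul
  rw [show (Subgroup.closure (g '' {k | k < certTwo.n})).index = 8906625 by
    rw [hn]; norm_num at hmul; omega] at hindex
  have := pow_gcd_eq_one.mpr ⟨show x ^ 2 = 1 by rw [pow_two]; exact hexp x hx, hindex⟩
  rwa [show Nat.gcd 2 8906625 = 1 by norm_num, pow_one] at this

theorem odd_torsion (C : CollectP.Cert) (hC : C.check = true) (hp : C.p.Prime) {gi ti : List ℕ}
    (hF : okFacts tabs gi ti C.facts = true) (hg : (gi.all fun a => (wits.map Prod.fst).contains a) = true)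
    (ht' : (ti.tail.all fun a => (wits.map Prod.fst).contains a) = true)
    (hr : inRangeC gi.length ti.length C.facts = true) (hn : gi.length = C.n)
    {ch : List (ℕ × List (List ℕ))} (hch : chainOK tabs gi [] ch = true) (hsize : chainSize ch = C.p ^ C.n)
    (hdiv : ¬ C.p * C.p ^ C.n ∣ 291852288000)
    {Γ : Type} [Group Γ] [Finite Γ] {σ : Γ →* DRu} (hσ : Cfsg.IsStemExtension σ) {z : Γ}
    (hz : z ∈ σ.ker) (hzp : z ^ C.p = 1) : z = 1 := by
  haveI := finite_fourRu H
  obtain ⟨ht, hf⟩ := facts_in_cover H hF hg ht' hr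
  set g : ℕ → DRu := fun k => toD (gI' tabs gi k) with hgdef
  set t : ℕ → DRu := fun k => toD (tI tabs ti k) with htdef
  have hle : C.p ^ C.n ≤ Nat.card (Subgroup.closure (g '' {k | k < C.n})) :=
    hsize ▸ card_ge_cover H hn hg hch
  refine CollectP.no_torsion hσ hp (fun Δ _ _ τ hτ hexp => ?_) hz hzp
  rw [eq_bot_iff]
  intro x hx
  have hupper := CollectP.card_lift C (Gl := g) (Tl := t) (E := fun _ => (1 : DRu))
    (fun _ _ => Commute.one_left _) (fun _ => one_pow _) ht (fun m => by
      show _ = _ * (1 : DRu)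
      rw [mul_one]
      by_cases hm : m < C.facts.length
      · exact hf m hm
      · rw [show C.fact m = (0, [], []) from List.getD_eq_default _ _ (not_lt.mp hm)]
        simp [Collect.ev_nil, htdef, ht]) hC
  have hone : ∀ f : ℕ → ℤ, CollectMod.zz (fun _ => (1 : DRu)) C.facts.length f = 1 := by
    intro f
    induction C.facts.length with
    | zero => rfl
    | succ k ih => simp [CollectMod.zz, ih]
  simp only [hone, mul_one] at hupper
  have hindex := CollectP.pow_index_eq_one hτ C hexp hC g t ht hf hle hx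
  have hmul := Subgroup.card_mul_index (Subgroup.closure (g '' {k | k < C.n}))
  rw [le_antisymm hupper hle, card_commutator H] at hmul
  have hco : Nat.Coprime C.p (Subgroup.closure (g '' {k | k < C.n})).index :=
    (Nat.Prime.coprime_iff_not_dvd hp).mpr
      fun h => hdiv (by rw [← hmul, mul_comm C.p]; exact Nat.mul_dvd_mul_left _ h)
  have := pow_gcd_eq_one.mpr ⟨hexp x hx, hindex⟩
  rwa [hco.gcd_eq_one, pow_one] at this

theorem stem_ker {Γ : Type} [Group Γ] [Finite Γ] {σ : Γ →* DRu} (hσ : Cfsg.IsStemExtension σ) :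
    σ.ker = ⊥ := by
  classical
  haveI := finite_fourRu H
  obtain ⟨-, -, g3, t3, g5, t5, gc⟩ := cover H
  obtain ⟨-, r3, r5, l3, l5, n3, n5, p3, p5⟩ := ranges_ok
  have k2 : ∀ w ∈ σ.ker, w ^ 2 = 1 → w = 1 := fun w hw h => two_torsion H hσ hw h
  have k3 : ∀ w ∈ σ.ker, w ^ 3 = 1 → w = 1 := fun w hw h =>
    odd_torsion H certThree certThree_ok (by rw [p3]; norm_num) factsThree_ok g3 t3 r3 l3
      (gens_ok.2.2.1 ▸ chainThree_ok.1) (by rw [chainThree_ok.2, p3, n3]; norm_num) (by rw [p3, n3]; norm_num) hσ hw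
      (by rwa [p3])
  have k5 : ∀ w ∈ σ.ker, w ^ 5 = 1 → w = 1 := fun w hw h =>
    odd_torsion H certFive certFive_ok (by rw [p5]; norm_num) factsFive_ok g5 t5 r5 l5
      (gens_ok.2.2.2 ▸ chainFive_ok.1) (by rw [chainFive_ok.2, p5, n5]; norm_num) (by rw [p5, n5]; norm_num) hσ hw
      (by rwa [p5])
  have kc : ∀ p : ℕ, p.Prime → p ∣ 291852288000 → ¬ p * p ∣ 291852288000 →
      ∀ w ∈ σ.ker, w ^ p = 1 → w = 1 := fun p hp hd hd2 w hw hwp => by
    haveI : Fact p.Prime := ⟨hp⟩
    obtain ⟨g, hg⟩ := exists_prime_orderOf_dvd_card' (G := DRu) p (by rw [card_commutator H]; exact hd)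
    refine CfsgPC.no_torsion_cyclic (g := g) hp (hg ▸ pow_orderOf_eq_one g) (fun h => ?_)
      (by rwa [card_commutator H]) hσ hw hwp
    rw [h, orderOf_one] at hg
    exact hp.one_lt.ne hg
  have kill : ∀ {p : ℕ}, (∀ w ∈ σ.ker, w ^ p = 1 → w = 1) → ∀ (k m : ℕ), ∀ z ∈ σ.ker,
      z ^ (p ^ k * m) = 1 → z ^ m = 1 := by
    intro p h k
    induction k with
    | zero => intro m z _ hz; simpa using hz
    | succ k ih =>
      intro m z hzH hz
      refine h _ (pow_mem hzH m) ?_
      rw [← pow_mul, mul_comm]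
      exact ih (p * m) z hzH (by rw [← hz]; congr 1; ring)
  rw [eq_bot_iff]
  intro z hz
  rw [Subgroup.mem_bot]
  have h0 : z ^ 291852288000 = 1 := by
    have := CfsgLib.StSL.pow_index_eq_one_of_cyclic hσ (1 : DRu) hz
    rwa [zpowers_one_eq_bot, index_bot, card_commutator H] at this
  rw [show (291852288000 : ℕ) = 2 ^ 15 * (3 ^ 3 * (5 ^ 3 * (7 ^ 1 * (13 ^ 1 * (29 ^ 1 * 1))))) by
    norm_num] at h0
  have h := kill (kc 29 (by norm_num) (by norm_num) (by norm_num)) 1 _ z hz
    (kill (kc 13 (by norm_num) (by norm_num) (by norm_num)) 1 _ z hz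
    (kill (kc 7 (by norm_num) (by norm_num) (by norm_num)) 1 _ z hz
    (kill k5 3 _ z hz (kill k3 3 _ z hz (kill k2 15 _ z hz h0)))))
  rwa [pow_one] at h

omit H in
/-- Finite central extensions of a perfect group without stem extensions have sections. -/
theorem exists_section {G : Type} [Group G] [Finite G] (hperf : _root_.commutator G = ⊤)
    (hker : ∀ (Γ : Type) [Group Γ] [Finite Γ] (σ : Γ →* G), Cfsg.IsStemExtension σ → σ.ker = ⊥)
    {S : Type} [Group S] [Finite S] (q : S →* G) (hq : Function.Surjective q) (hqc : q.ker ≤ Subgroup.center S) :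
    ∃ s : G →* S, ∀ d, q (s d) = d := by
  have htop : (_root_.commutator S).map q = ⊤ := by
    rw [_root_.commutator_def, Subgroup.map_commutator, Subgroup.map_top_of_surjective q hq]
    exact hperf
  have hsplit : ∀ a : S, ∃ d ∈ _root_.commutator S, q a = q d := fun a => by
    obtain ⟨d, hd, he⟩ := htop.ge (Subgroup.mem_top (q a))
    exact ⟨d, hd, he.symm⟩
  have hD : _root_.commutator S ≤ ⁅_root_.commutator S, _root_.commutator S⁆ := by
    rw [_root_.commutator_def, Subgroup.commutator_le]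
    intro a _ b _
    obtain ⟨d, hd, ha⟩ := hsplit a
    obtain ⟨d', hd', hb⟩ := hsplit b
    rw [CfsgLib.StSL.comm_congr hqc ha hb]
    exact Subgroup.commutator_mem_commutator hd hd'
  let τ : ↥(_root_.commutator S) →* G := q.comp (_root_.commutator S).subtype
  have hτs : Function.Surjective τ := fun y => by
    obtain ⟨d, hd, he⟩ := htop.ge (Subgroup.mem_top y)
    exact ⟨⟨d, hd⟩, he⟩
  have hstem : Cfsg.IsStemExtension τ := by
    refine ⟨hτs, fun x hx => Subgroup.mem_center_iff.mpr fun g => Subtype.ext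
      (Subgroup.mem_center_iff.mp (hqc (show q x = 1 from hx)) g), fun x _ => ?_⟩
    have h2 := Subgroup.map_commutator (⊤ : Subgroup ↥(_root_.commutator S)) ⊤ (_root_.commutator S).subtype
    rw [← MonoidHom.range_eq_map, Subgroup.range_subtype, ← _root_.commutator_def] at h2
    obtain ⟨y, hy, hye⟩ := h2.ge (hD x.2)
    rwa [← Subtype.ext (show (y : S) = (x : S) from hye)]
  let e : ↥(_root_.commutator S) ≃* G :=
    MulEquiv.ofBijective τ ⟨(MonoidHom.ker_eq_bot_iff τ).mp (hker _ τ hstem), hτs⟩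
  exact ⟨(_root_.commutator S).subtype.comp e.symm.toMonoidHom, fun d => e.apply_symm_apply d⟩

theorem multiplier : Cfsg.HasCyclicSchurMultiplier Cfsg.Spor.Ru 2 := by
  classical
  haveI := finite_fourRu H
  let θ : DRu →* Cfsg.Spor.Ru :=
    (QuotientGroup.mk' (Subgroup.center ↥fourRu)).comp (_root_.commutator ↥fourRu).subtype
  have hθs : Function.Surjective θ := fun y => by
    obtain ⟨g, rfl⟩ := QuotientGroup.mk'_surjective (Subgroup.center ↥fourRu) y
    obtain ⟨d, hd, k, rfl⟩ := decomp H g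
    refine ⟨⟨d, hd⟩, ?_⟩
    show QuotientGroup.mk' (Subgroup.center ↥fourRu) d = _
    rw [map_mul, show QuotientGroup.mk' (Subgroup.center ↥fourRu) (iU ^ k) = 1 from
      (QuotientGroup.eq_one_iff _).mpr (pow_mem iU_mem_center k), mul_one]
  have hkc : θ.ker ≤ Subgroup.center DRu := fun x hx => Subgroup.mem_center_iff.mpr fun g => Subtype.ext
    (Subgroup.mem_center_iff.mp ((QuotientGroup.eq_one_iff _).mp hx) g)
  have hc2 : Nat.card ↥θ.ker = 2 := by
    have h := Subgroup.card_eq_card_quotient_mul_card_subgroup θ.ker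
    rw [Nat.card_congr (QuotientGroup.quotientKerEquivOfSurjective θ hθs).toEquiv, H.ru_card,
      card_commutator H] at h
    omega
  haveI : Fact (Nat.Prime 2) := ⟨Nat.prime_two⟩
  obtain ⟨π, hπ⟩ := CfsgLib.SchurSmall.exists_surjective_of_cyclic (K := ↥θ.ker) (isCyclic_of_prime_card hc2)
    (n := 2) (by rw [hc2])
  refine ⟨⟨DRu, inferInstance, inferInstance, θ,
    ⟨hθs, hkc, by rw [commutator_perfect H]; exact le_top⟩, ?_⟩, fun Γ _ _ σ hσ => ?_⟩
  · exact ⟨(MulEquiv.ofBijective π ((Nat.bijective_iff_surjective_and_card π).mpr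
      ⟨hπ, by rw [hc2]; simp⟩)).symm⟩
  obtain ⟨hs, hc, hcomm⟩ := hσ
  let S : Subgroup (Γ × DRu) := (σ.comp (MonoidHom.fst _ _)).eqLocus (θ.comp (MonoidHom.snd _ _))
  let q : S →* DRu := (MonoidHom.snd _ _).comp S.subtype
  have hq : Function.Surjective q := fun d => by
    obtain ⟨g, hg⟩ := hs (θ d)
    exact ⟨⟨(g, d), hg⟩, rfl⟩
  have hqc : q.ker ≤ Subgroup.center S := by
    rintro ⟨⟨g, d⟩, hm⟩ hd
    have hd' : d = 1 := hd
    subst hd'
    have hg : g ∈ Subgroup.center Γ := hc ((show σ g = θ 1 from hm).trans (map_one θ))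
    rw [Subgroup.mem_center_iff]
    rintro ⟨⟨g', d'⟩, hm'⟩
    exact Subtype.ext (Prod.ext (Subgroup.mem_center_iff.mp hg g') (by simp))
  obtain ⟨s, hs'⟩ := exists_section (commutator_perfect H) (fun _ _ _ _ h => stem_ker H h) q hq hqc
  let τ : DRu →* Γ := ((MonoidHom.fst _ _).comp S.subtype).comp s
  have hτ : ∀ d, σ (τ d) = θ d := fun d => by
    have h1 : σ (s d).1.1 = θ (s d).1.2 := (s d).2
    rwa [show (s d).1.2 = d from hs' d] at h1
  have hle : _root_.commutator Γ ≤ τ.range := by
    rw [_root_.commutator_def, Subgroup.commutator_le]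
    intro a _ b _
    obtain ⟨a', ha⟩ := hθs (σ a)
    obtain ⟨b', hb⟩ := hθs (σ b)
    refine ⟨⁅a', b'⁆, ?_⟩
    rw [map_commutatorElement]
    exact CfsgLib.StSL.comm_congr hc ((hτ a').trans ha) ((hτ b').trans hb)
  let f : θ.ker →* σ.ker := (τ.comp θ.ker.subtype).codRestrict _ fun x => by
    rw [MonoidHom.mem_ker]
    exact (hτ x.1).trans x.2
  refine ⟨f.comp π, fun y => ?_⟩
  obtain ⟨x, hx⟩ := hle (hcomm y.2)
  have hxk : θ x = 1 := by rw [← hτ x, hx]; exact y.2
  obtain ⟨a, ha⟩ := hπ ⟨x, hxk⟩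
  exact ⟨a, Subtype.ext (by simpa [f, ha] using hx)⟩

end CfsgLib.RuMult
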